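import Cfsg.Agent.Eq.Def_FusionSystem
import Cfsg.Agent.FusModel.Local
import Cfsg.Agent.Fusion.Alperin.Criteria
import Cfsg.Agent.Fus.Centric

/-!
Characteristic functors controlling weak closure of elements in fusion systems, from the local
condition in models.
-/

set_option autoImplicit false

namespace CfsgLib.FusFunctor

open Cfsg Cfsg.FusionSystem CfsgLib.Fus

universe u

variable {Ω : Type u} [Group Ω] {S : Subgroup Ω} [Finite S] {p : ℕ} [Fact p.Prime]

omit [Finite S] in
/-- A map whose range is its source, as an automorphism, fixes what the automorphisms fix. -/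
theorem fix_of_aut {F : Cfsg.FusionSystem S} {X : Subgroup Ω} {z : Ω} (hz : z ∈ X)
    (h : ∀ α ∈ F.autGroup X, ((α ⟨z, hz⟩ : X) : Ω) = z) {φ : X →* Ω} (hφ : φ ∈ F.Hom X)
    (hr : φ.range = X) : φ ⟨z, hz⟩ = z :=
  h _ (isoOf_mem_autGroup hφ hr)

theorem card_lt_normalizerIn (hS : IsPGroup p S) {P : Subgroup Ω} (hP : P ≤ S) (hne : P ≠ S) :
    Nat.card P < Nat.card (normalizerIn S P) := by
  obtain ⟨g, hg, hgP⟩ := Fusion.Alperin.exists_normalizing_not_mem hS hP hne
  exact Fusion.Alperin.card_lt_of_le_of_mem (normalizerIn_le P) (le_normalizerIn hP) hg hgP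

/-- If the automorphisms of subgroups with normalizer of order more than `k` fix `z`, so do the maps on
subgroups of order at least `k`. -/
theorem fix_of_big (hS : IsPGroup p S) {F : Cfsg.FusionSystem S} (hF : F.IsSaturated p) {z : Ω}
    (k : ℕ) (htop : ∀ hz : z ∈ S, ∀ α ∈ F.autGroup S, ((α ⟨z, hz⟩ : S) : Ω) = z)
    (hk : ∀ (X : Subgroup Ω) (hz : z ∈ X), X ≤ S → k < Nat.card (normalizerIn S X) →
      ∀ α ∈ F.autGroup X, ((α ⟨z, hz⟩ : X) : Ω) = z)
    {P : Subgroup Ω} {φ : P →* Ω} (hφ : φ ∈ F.Hom P) (hzP : z ∈ P) (hP : k ≤ Nat.card P) :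
    φ ⟨z, hzP⟩ = z := by
  induction hn : Nat.card S - Nat.card P using Nat.strong_induction_on generalizing P with
  | _ n ih =>
  subst hn
  have hPS := hom_le F hφ
  rcases eq_or_ne P S with rfl | hne
  · exact fix_of_aut hzP (htop hzP) hφ
      (Subgroup.eq_of_le_of_card_ge (range_le F hφ) (isConj_card (isConj_of_hom F hφ)).le)
  have hlt := card_lt_normalizerIn hS hPS hne
  have big : ∀ {R : Subgroup Ω} {ψ : R →* Ω}, ψ ∈ F.Hom R → ∀ hzR : z ∈ R,
      Nat.card P < Nat.card R → ψ ⟨z, hzR⟩ = z := by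
    intro R ψ hψ hzR h
    exact ih _ (by have := Subgroup.card_le_of_le (hom_le F hψ); omega) hψ hzR (by omega) rfl
  obtain ⟨Q, hPQ, hQ⟩ := exists_fullyNormalized F hPS
  obtain ⟨χ, hχ, hχr, ψ, hψ, hψe⟩ := exists_normalizer_map_fn hS hF hQ hPQ
  have hχz : χ ⟨z, hzP⟩ = z := by
    rw [← hψe ⟨z, hzP⟩ (le_normalizerIn hPS hzP)]
    exact big hψ _ hlt
  have hzQ : z ∈ Q := hχr ▸ ⟨⟨z, hzP⟩, hχz⟩
  have hP'conj := isConj_trans (isConj_symm (isConj_of_hom F hφ)) hPQ
  obtain ⟨χ', hχ', hχ'r, ψ', hψ', hψ'e⟩ := exists_normalizer_map_fn hS hF hQ hP'conj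
  let e := isoOf hχ hχr
  let e' := isoOf hχ' hχ'r
  let α : MulAut Q := e.symm.trans ((isoOf hφ rfl).trans e')
  have hα : α ∈ F.autGroup Q := mem_autGroup_of_mem F
    (hom_of_comp F (isoOf_symm_mem hχ hχr)
      (hom_of_comp F (isoOf_mem hφ rfl) (isoOf_mem hχ' hχ'r)
        (χ := Q.subtype.comp (e'.toMonoidHom.comp (isoOf hφ rfl).toMonoidHom))
        (fun x => (isoOf hφ rfl x).2) fun _ => rfl)
      (fun y => (e.symm y).2) fun _ => rfl)
  have hQne : Q ≠ S := fun he => hne
    (Subgroup.eq_of_le_of_card_ge hPS (le_of_eq (by rw [isConj_card hPQ, he])))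
  have hαz := hk Q hzQ hQ.1 (lt_of_le_of_lt (hP.trans (isConj_card hPQ).le)
    (card_lt_normalizerIn hS hQ.1 hQne)) α hα
  have hez : e.symm ⟨z, hzQ⟩ = ⟨z, hzP⟩ := by
    rw [MulEquiv.symm_apply_eq]; exact Subtype.ext hχz.symm
  have h1 : χ' ⟨φ ⟨z, hzP⟩, ⟨_, rfl⟩⟩ = z := by
    rw [show χ' ⟨φ ⟨z, hzP⟩, ⟨_, rfl⟩⟩ = ((α ⟨z, hzQ⟩ : Q) : Ω) from by
      show _ = ((e' (isoOf hφ rfl (e.symm ⟨z, hzQ⟩)) : Q) : Ω)
      rw [hez]
      rfl]
    exact hαz
  -- go back along the inverse of the extension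
  have hmem : φ ⟨z, hzP⟩ ∈ normalizerIn S φ.range :=
    le_normalizerIn (range_le F hφ) ⟨_, rfl⟩
  have h2 : ψ' ⟨φ ⟨z, hzP⟩, hmem⟩ = z := (hψ'e ⟨φ ⟨z, hzP⟩, ⟨_, rfl⟩⟩ hmem).trans h1
  obtain ⟨ι, hι, -, hιψ, -⟩ := exists_inv F hψ' rfl
  have hlt' : Nat.card P < Nat.card ψ'.range := by
    rw [← isConj_card (isConj_of_hom F hψ'), isConj_card (isConj_of_hom F hφ)]
    refine card_lt_normalizerIn hS (range_le F hφ) fun he => hne ?_
    exact Subgroup.eq_of_le_of_card_ge hPS
      (le_of_eq (by rw [isConj_card (isConj_of_hom F hφ), he]))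
  have h3 := big hι (R := ψ'.range) ⟨_, h2⟩ hlt'
  have h4 := hιψ ⟨φ ⟨z, hzP⟩, hmem⟩ ⟨_, rfl⟩
  exact h4.symm.trans ((congrArg ι (Subtype.ext h2)).trans h3)

/-- The local condition at one centric subgroup: `z` is fixed by the automorphisms of a centric fully
normalized `Y` once it is fixed by those of `W(N_S(Y))`. -/
theorem fix_of_model (hS : IsPGroup p S) {F : Cfsg.FusionSystem S} (hF : F.IsSaturated p)
    (W : ∀ (Q : Type u) [Group Q], Subgroup Q)
    (hW2 : ∀ (Q R : Type u) [Group Q] [Group R] [Finite Q], IsPGroup p Q →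
      ∀ φ : Q ≃* R, (W Q).map φ.toMonoidHom = W R)
    (hC : ∀ (G : Type u) [Group G] [Finite G] (P : Sylow p G),
      Cfsg.pCore p G ⊓ Subgroup.center G = Cfsg.pCore p G ⊓
        (Subgroup.center ↥(Subgroup.normalizer
          (((W ↥(P : Subgroup G)).map (P : Subgroup G).subtype : Subgroup G) : Set G))).map
          (Subgroup.normalizer
            (((W ↥(P : Subgroup G)).map (P : Subgroup G).subtype : Subgroup G) : Set G)).subtype)
    {Y : Subgroup Ω} (hY : F.IsFullyNormalized Y) (hYc : F.IsCentric Y) {z : Ω} (hzY : z ∈ Y)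
    (hzW : z ∈ (W ↥(normalizerIn S Y)).map (normalizerIn S Y).subtype)
    (hfix : ∀ α ∈ F.autGroup ((W ↥(normalizerIn S Y)).map (normalizerIn S Y).subtype),
      ((α ⟨z, hzW⟩ : _) : Ω) = z)
    {α : MulAut Y} (hα : α ∈ F.autGroup Y) : ((α ⟨z, hzY⟩ : Y) : Ω) = z := by
  set T := normalizerIn S Y with hT
  haveI : Finite T := finite_of_le (normalizerIn_le Y)
  obtain ⟨L, _, ι, hmod⟩ := FusModel.exists_local_model hS hF hY hYc
  have hn := FusModel.normal_image_of_model hmod (FusModel.isNormal_normalizer hY.1 fun _ => rfl)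
  obtain ⟨hfin, ⟨hinj, hreal⟩, ⟨P, hP⟩, -⟩ := hmod
  haveI := hfin
  have hTp : IsPGroup p T := hS.to_le (normalizerIn_le Y)
  set X := (W ↥T).map T.subtype with hX
  have hXT : X ≤ T := Subgroup.map_subtype_le _
  let e : T ≃* (P : Subgroup L) := (MonoidHom.ofInjective hinj).trans (MulEquiv.subgroupCongr hP.symm)
  have hWP : (W ↥(P : Subgroup L)).map (P : Subgroup L).subtype = (W ↥T).map ι := by
    rw [← hW2 ↥T ↥(P : Subgroup L) hTp e, Subgroup.map_map]
    rfl
  have hzT : z ∈ T := hXT hzW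
  set w : L := ι ⟨z, hzT⟩ with hw
  have hwcore : w ∈ Cfsg.pCore p L :=
    CfsgLib.CharP.le_pCore hn ((hTp.to_subgroup (Y.subgroupOf T)).map ι)
      ⟨⟨z, hzT⟩, hzY, rfl⟩
  have hwW : w ∈ (W ↥T).map ι := by
    obtain ⟨t, ht, htz⟩ := hzW
    exact ⟨t, ht, congrArg ι (Subtype.ext htz)⟩
  -- `w` is fixed by the normalizer of `W(P)`
  have hfixN : ∀ g ∈ Subgroup.normalizer (((W ↥T).map ι : Subgroup L) : Set L), g * w * g⁻¹ = w := by
    intro g hg
    have hmem : ∀ x : X, g * ι ⟨x, hXT x.2⟩ * g⁻¹ ∈ (W ↥T).map ι := by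
      rintro ⟨_, t, ht, rfl⟩
      exact (Subgroup.mem_normalizer_iff.1 hg _).1 ⟨t, ht, rfl⟩
    let f : X →* T := (MonoidHom.ofInjective hinj).symm.toMonoidHom.comp
      (((MulAut.conj g).toMonoidHom.comp (ι.comp (Subgroup.inclusion hXT))).codRestrict ι.range
        fun x => by obtain ⟨t, -, ht⟩ := hmem x; exact ⟨t, ht⟩)
    have hf : ∀ x, ι (f x) = g * ι ⟨x, hXT x.2⟩ * g⁻¹ := fun x => by
      show ι ((MonoidHom.ofInjective hinj).symm ⟨_, _⟩) = _
      rw [MonoidHom.apply_ofInjective_symm]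
      rfl
    have hfX : ∀ x, ((f x : T) : Ω) ∈ X := fun x => by
      obtain ⟨t, ht, hte⟩ := hmem x
      rw [← hf x] at hte
      exact ⟨t, ht, congrArg Subtype.val (hinj hte)⟩
    have hE : T.subtype.comp f ∈ (normalizerSystem F Y hY.1).Hom X :=
      (hreal X hXT _ fun x => (f x).2).2 ⟨g, fun x => hf x⟩
    have hFm : T.subtype.comp f ∈ F.Hom X := hE.1
    haveI := finite_of_le hXT
    have hr : (T.subtype.comp f).range = X := by
      refine Subgroup.eq_of_le_of_card_ge ?_ (isConj_card (isConj_of_hom F hFm)).le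
      rintro _ ⟨x, rfl⟩
      exact hfX x
    have h := fix_of_aut hzW hfix hFm hr
    rw [hw]
    rw [← show f ⟨z, hzW⟩ = ⟨z, hzT⟩ from Subtype.ext h]
    conv_rhs => rw [hf]
    rw [show f ⟨z, hzW⟩ = ⟨z, hzT⟩ from Subtype.ext h]
  have hwN : w ∈ Cfsg.pCore p L ⊓ (Subgroup.center ↥(Subgroup.normalizer
      (((W ↥(P : Subgroup L)).map (P : Subgroup L).subtype : Subgroup L) : Set L))).map
      (Subgroup.normalizer
        (((W ↥(P : Subgroup L)).map (P : Subgroup L).subtype : Subgroup L) : Set L)).subtype := by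
    refine ⟨hwcore, ⟨w, ?_⟩, ?_, rfl⟩
    · rw [hWP]
      exact Subgroup.le_normalizer hwW
    · refine Subgroup.mem_center_iff.2 fun g => Subtype.ext ?_
      have h := hfixN g (by
        have := g.2
        simp only [hWP] at this
        exact this)
      show (g : L) * w = w * g
      exact mul_inv_eq_iff_eq_mul.1 h
  rw [← hC L P] at hwN
  -- realise `α`
  have hαY := (mem_autGroup_iff F hY.1).1 hα
  have hYT : Y ≤ T := le_normalizerIn hY.1
  haveI := finite_of_le hY.1
  have hE : Y.subtype.comp α.toMonoidHom ∈ (normalizerSystem F Y hY.1).Hom Y := by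
    refine ⟨hαY, hYT, fun x => hYT (α x).2, _, restrict_mem F hαY (sup_idem Y).le, fun x => rfl, ?_⟩
    exact Fusion.Alperin.subgroupOf_map_eq
      (haveI := finite_of_le hY.1; F.injective_of_mem (restrict_mem F hαY (sup_idem Y).le))
      le_sup_left fun x _ => (α _).2
  obtain ⟨g, hg⟩ := (hreal Y hYT _ fun x => hYT (α x).2).1 hE
  have h := hg ⟨z, hzY⟩
  rw [show g * ι ⟨z, hYT hzY⟩ * g⁻¹ = ι ⟨z, hYT hzY⟩ from by
    rw [Subgroup.mem_center_iff.1 hwN.2 g, mul_inv_cancel_right]] at h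
  exact congrArg Subtype.val (hinj h)

/-- The theorem: centres of `F` and of `N_F(W(S))` agree. -/
theorem center_eq (hS : IsPGroup p S) (W : ∀ (Q : Type u) [Group Q], Subgroup Q)
    (hW2 : ∀ (Q R : Type u) [Group Q] [Group R] [Finite Q], IsPGroup p Q →
      ∀ φ : Q ≃* R, (W Q).map φ.toMonoidHom = W R)
    (hWZ : ∀ (Q : Type u) [Group Q] [Finite Q], IsPGroup p Q → Subgroup.center Q ≤ W Q)
    (hC : ∀ (G : Type u) [Group G] [Finite G] (P : Sylow p G),
      Cfsg.pCore p G ⊓ Subgroup.center G = Cfsg.pCore p G ⊓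
        (Subgroup.center ↥(Subgroup.normalizer
          (((W ↥(P : Subgroup G)).map (P : Subgroup G).subtype : Subgroup G) : Set G))).map
          (Subgroup.normalizer
            (((W ↥(P : Subgroup G)).map (P : Subgroup G).subtype : Subgroup G) : Set G)).subtype)
    {F : Cfsg.FusionSystem S} (hF : F.IsSaturated p)
    {N : Cfsg.FusionSystem (normalizerIn S ((W ↥S).map S.subtype))}
    (hN : F.IsNormalizerSystem ((W ↥S).map S.subtype) N) : N.center = F.center := by
  revert N
  set V := (W ↥S).map S.subtype with hV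
  intro N hN
  have hVS : V ≤ S := Subgroup.map_subtype_le _
  haveI := finite_of_le hVS
  haveI : Finite (normalizerIn S V) := finite_of_le (normalizerIn_le V)
  -- automorphisms of `S` preserve `V`
  have hVchar : ∀ α : MulAut S, ∀ x : S, (x : Ω) ∈ V → ((α x : S) : Ω) ∈ V := by
    rintro α x ⟨t, ht, htx⟩
    obtain rfl : t = x := Subtype.ext htx
    exact ⟨α t, (hW2 ↥S ↥S hS α).le ⟨t, ht, rfl⟩, rfl⟩
  have hNS : normalizerIn S V = S := by
    refine le_antisymm inf_le_left fun g hg => ⟨hg, Subgroup.mem_normalizer_iff.2 fun y => ⟨fun hy => ?_, fun hy => ?_⟩⟩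
    · exact hVchar (MulAut.conj ⟨g, hg⟩) ⟨y, hVS hy⟩ hy
    · have h := hVchar (MulAut.conj (⟨g, hg⟩ : S)⁻¹) ⟨_, hVS hy⟩ hy
      simpa [mul_assoc] using h
  have hVfn : F.IsFullyNormalized V := ⟨hVS, fun R _ =>
    haveI := finite_of_le (normalizerIn_le (S := S) V)
    Subgroup.card_le_of_le ((normalizerIn_le R).trans hNS.ge)⟩
  have hNsat := FusModel.isSaturated_normalizer hS hF hVfn hN
  apply le_antisymm
  · -- central elements of `N` are central in `F`
    set A := N.center
    have hA : N.IsCentral A := Fusion.Alperin.isCentral_center (hS.to_le (normalizerIn_le V)) hNsat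
    have hAS : A ≤ S := hA.1.trans inf_le_left
    -- an automorphism in `N` fixes `A`
    have hNfix : ∀ (X : Subgroup Ω) (φ : X →* Ω), φ ∈ N.Hom X → ∀ x : X, (x : Ω) ∈ A → φ x = x := by
      intro X φ hφ x hx
      obtain ⟨ψ, -, hψe, hψA⟩ := hA.2 X φ hφ
      rw [← hψe x]
      exact hψA ⟨x, hx⟩
    have hAcent : ∀ a ∈ A, ∀ s ∈ S, s * a = a * s := by
      intro a ha s hs
      have h := hNfix S _ (N.conj_mem hNS.ge (hNS.ge hs)) ⟨a, hAS ha⟩ ha
      exact mul_inv_eq_iff_eq_mul.1 h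
    have haz : ∀ a ∈ A, ∀ T : Subgroup Ω, ∀ haT : a ∈ T, T ≤ S → a ∈ (W ↥T).map T.subtype := by
      intro a ha T haT hTS
      haveI := finite_of_le hTS
      exact ⟨⟨a, haT⟩, hWZ ↥T (hS.to_le hTS)
        (Subgroup.mem_center_iff.2 fun t => Subtype.ext (hAcent a ha t (hTS t.2))), rfl⟩
    suffices hmain : ∀ z ∈ A, ∀ (X : Subgroup Ω) (hz : z ∈ X), X ≤ S → ∀ α ∈ F.autGroup X,
        ((α ⟨z, hz⟩ : X) : Ω) = z by
      refine le_sSup (s := {Q : Subgroup Ω | F.IsCentral Q}) (Fusion.Alperin.isCentral_criterion hS hF hAS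
        (fun R hR a ha => centralizerIn_le_of_centric hR.centric
          ⟨hAS ha, fun y hy => hAcent a ha y (hR.centric.1 hy)⟩)
        fun R hR α hα x hx => Subtype.ext (hmain x hx R x.2 hR.centric.1 α hα))
    intro z hz
    -- automorphisms of `S` and of `V` fix `z`
    have hzV : z ∈ V := haz z hz S (hAS hz) le_rfl
    have hautN : ∀ (X : Subgroup Ω), X ≤ S → ∀ α ∈ F.autGroup X,
        (∀ x : X, (x : Ω) ∈ V → ((α x : X) : Ω) ∈ V) → V ≤ X →
          X.subtype.comp α.toMonoidHom ∈ N.Hom X := by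
      intro X hX α hα hαV hVX
      have h := (mem_autGroup_iff F hX).1 hα
      rw [hN X]
      refine ⟨h, hX.trans hNS.ge, fun x => hNS.ge (hX (α x).2), _, restrict_mem F h (sup_le le_rfl hVX),
        fun x => rfl, ?_⟩
      exact Fusion.Alperin.subgroupOf_map_eq (F.injective_of_mem (restrict_mem F h (sup_le le_rfl hVX)))
        le_sup_right fun x hx => hαV _ hx
    have htop : ∀ hzS : z ∈ S, ∀ α ∈ F.autGroup S, ((α ⟨z, hzS⟩ : S) : Ω) = z := fun hzS α hα =>
      hNfix S _ (hautN S le_rfl α hα (fun x hx => hVchar α x hx) hVS) ⟨z, hzS⟩ hz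
    have hVfix : ∀ α ∈ F.autGroup V, ((α ⟨z, hzV⟩ : V) : Ω) = z := fun α hα =>
      hNfix V _ (hautN V hVS α hα (fun x _ => (α x).2) le_rfl) ⟨z, hzV⟩ hz
    -- the induction
    suffices h : ∀ (k : ℕ) (X : Subgroup Ω) (hzX : z ∈ X), X ≤ S → Nat.card (normalizerIn S X) = k →
        ∀ α ∈ F.autGroup X, ((α ⟨z, hzX⟩ : X) : Ω) = z from fun X hzX hX => h _ X hzX hX rfl
    intro k
    induction hk : Nat.card S - k using Nat.strong_induction_on generalizing k with
    | _ m ihk =>
    subst hk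
    have hbig : ∀ (X : Subgroup Ω) (hzX : z ∈ X), X ≤ S → k < Nat.card (normalizerIn S X) →
        ∀ α ∈ F.autGroup X, ((α ⟨z, hzX⟩ : X) : Ω) = z := by
      intro X hzX hX hlt
      refine ihk _ ?_ _ rfl X hzX hX rfl
      have := Subgroup.card_le_of_le (normalizerIn_le (S := S) X)
      omega
    intro X hzX hX
    induction hx : Nat.card S - Nat.card X using Nat.strong_induction_on generalizing X with
    | _ m' ihX =>
    subst hx
    intro hkX
    -- fully normalized case
    have fncase : ∀ Y : Subgroup Ω, F.IsFullyNormalized Y → ∀ hzY : z ∈ Y, Nat.card Y = Nat.card X →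
        Nat.card (normalizerIn S Y) = k → ∀ α ∈ F.autGroup Y, ((α ⟨z, hzY⟩ : Y) : Ω) = z := by
      intro Y hY hzY hYX hYk α hα
      haveI := finite_of_le hY.1
      by_cases hYc : F.IsCentric Y
      · have hzW : z ∈ (W ↥(normalizerIn S Y)).map (normalizerIn S Y).subtype :=
          haz z hz _ (le_normalizerIn hY.1 hzY) (normalizerIn_le Y)
        refine fix_of_model hS hF W hW2 hC hY hYc hzY hzW ?_ hα
        rcases eq_or_ne (normalizerIn S Y) S with he | hne
        · intro β hβ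
          revert β
          revert hzW
          rw [he]
          intro _ β hβ
          exact hVfix β hβ
        · refine hbig _ hzW ((Subgroup.map_subtype_le _).trans (normalizerIn_le Y)) ?_
          set T := normalizerIn S Y
          have hle : normalizerIn S T ≤ normalizerIn S ((W ↥T).map T.subtype) := by
            intro g hg
            haveI := finite_of_le (normalizerIn_le (S := S) Y)
            have hch : ∀ β : MulAut T, ∀ t ∈ W ↥T, β t ∈ W ↥T := fun β t ht =>
              (hW2 ↥T ↥T (hS.to_le (normalizerIn_le Y)) β).le ⟨t, ht, rfl⟩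
            refine ⟨hg.1, Subgroup.mem_normalizer_iff.2 fun y => ⟨?_, fun hy => ?_⟩⟩
            · rintro ⟨t, ht, rfl⟩
              exact ⟨conjAut hg.2 t, hch _ t ht, rfl⟩
            · obtain ⟨t, ht, hte⟩ := hy
              refine ⟨(conjAut hg.2)⁻¹ t, hch _ t ht, ?_⟩
              show (((conjAut hg.2)⁻¹ t : T) : Ω) = y
              have h : conjAut hg.2 ⟨y, (Subgroup.mem_normalizer_iff.1 hg.2 y).2 (by rw [← hte]; exact t.2)⟩ = t :=
                Subtype.ext hte.symm
              rw [← h, MulAut.inv_apply_self]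
          haveI := finite_of_le (normalizerIn_le (S := S) ((W ↥T).map T.subtype))
          rw [← hYk]
          exact lt_of_lt_of_le (card_lt_normalizerIn hS (normalizerIn_le Y) hne)
            (Subgroup.card_le_of_le hle)
      · -- non-centric: extend to `Y C_S(Y)`
        have hnc : ¬ centralizerIn S Y ≤ Y := fun h =>
          hYc (isCentric_of_fullyCentralized (fullyCentralized_of_fullyNormalized hS hF hY) h)
        set R := Y ⊔ centralizerIn S Y
        have hRS : R ≤ S := sup_le hY.1 (centralizerIn_le Y)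
        haveI := finite_of_le hRS
        have hφ := (mem_autGroup_iff F hY.1).1 hα
        obtain ⟨ψ, hψ, hψe⟩ := exists_ext (fullyNormalized_props hS hF hY).2 hφ (range_subtype_comp α)
          (le_sup_left : Y ≤ R) (sup_le (le_extender F hφ) centralizerIn_le_extender)
        have hr : ψ.range = R := by
          refine Subgroup.eq_of_le_of_card_ge ?_ (isConj_card (isConj_of_hom F hψ)).le
          rintro _ ⟨x, rfl⟩
          exact map_mem_sup ψ (fun y => hψe y ▸ (α y).2)
            (fun c => map_mem_centralizerIn (range_subtype_comp α) hψ le_sup_left hψe c.2.2) x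
        have hlt : Nat.card Y < Nat.card R := by
          obtain ⟨c, hc, hcY⟩ := SetLike.not_le_iff_exists.1 hnc
          exact Fusion.Alperin.card_lt_of_le_of_mem hRS le_sup_left (Subgroup.mem_sup_right hc) hcY
        have hN : normalizerIn S Y ≤ normalizerIn S R := by
          intro g hg
          refine ⟨hg.1, ?_⟩
          have hC' : g ∈ Subgroup.normalizer (centralizerIn S Y : Set Ω) := by
            have key : ∀ g ∈ normalizerIn S Y, ∀ c ∈ centralizerIn S Y, g * c * g⁻¹ ∈ centralizerIn S Y := by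
              intro g hg c hc
              refine ⟨S.mul_mem (S.mul_mem hg.1 hc.1) (S.inv_mem hg.1), fun y hy => ?_⟩
              have h' := hc.2 _ ((Subgroup.mem_normalizer_iff''.1 hg.2 y).1 hy)
              calc y * (g * c * g⁻¹) = g * ((g⁻¹ * y * g) * c) * g⁻¹ := by group
                _ = g * (c * (g⁻¹ * y * g)) * g⁻¹ := by rw [h']
                _ = g * c * g⁻¹ * y := by group
            refine Subgroup.mem_normalizer_iff.2 fun c => ⟨key g hg c, fun hc => ?_⟩
            have h' := key g⁻¹ (inv_mem hg) _ hc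
            simpa [mul_assoc] using h'
          have e : R.map (MulAut.conj g : Ω →* Ω) = R := by
            rw [Subgroup.map_sup, Subgroup.mem_normalizer_iff_map_conj_eq.1 hg.2,
              Subgroup.mem_normalizer_iff_map_conj_eq.1 hC']
          exact Subgroup.mem_normalizer_iff_map_conj_eq.2 e
        haveI := finite_of_le (normalizerIn_le (S := S) R)
        have hzR : z ∈ R := Subgroup.mem_sup_left hzY
        have hfixR : ∀ β ∈ F.autGroup R, ((β ⟨z, hzR⟩ : R) : Ω) = z := by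
          rcases (hYk ▸ Subgroup.card_le_of_le hN : k ≤ Nat.card (normalizerIn S R)).lt_or_eq with h | h
          · exact hbig R hzR hRS h
          · exact ihX _ (by have := Subgroup.card_le_of_le hRS; omega) R hzR hRS rfl h.symm
        have h := fix_of_aut hzR hfixR hψ hr
        exact (hψe ⟨z, hzY⟩).symm.trans h
    intro α hα
    obtain ⟨Y, hXY, hY⟩ := exists_fullyNormalized F hX
    obtain ⟨χ, hχ, hχr, ψ, hψ, hψe⟩ := exists_normalizer_map_fn hS hF hY hXY
    have hzN : z ∈ normalizerIn S X := le_normalizerIn hX hzX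
    have hχz : χ ⟨z, hzX⟩ = z := by
      rw [← hψe ⟨z, hzX⟩ hzN]
      exact fix_of_big hS hF k htop hbig hψ hzN hkX.ge
    have hzY : z ∈ Y := hχr ▸ ⟨⟨z, hzX⟩, hχz⟩
    have hle : k ≤ Nat.card (normalizerIn S Y) := hkX ▸ hY.2 X (isConj_symm hXY)
    have hfixY : ∀ β ∈ F.autGroup Y, ((β ⟨z, hzY⟩ : Y) : Ω) = z := by
      rcases hle.lt_or_eq with h | h
      · exact hbig Y hzY hY.1 h
      · exact fncase Y hY hzY (isConj_card hXY).symm h.symm
    have h := hfixY _ (congr_mem_autGroup hχ hχr hα)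
    have hez : (isoOf hχ hχr).symm ⟨z, hzY⟩ = ⟨z, hzX⟩ := by
      rw [MulEquiv.symm_apply_eq]; exact Subtype.ext hχz.symm
    have h' : χ (α ⟨z, hzX⟩) = χ ⟨z, hzX⟩ := by
      rw [hχz]
      calc χ (α ⟨z, hzX⟩) = ((MulAut.congr (isoOf hχ hχr) α ⟨z, hzY⟩ : Y) : Ω) := by
            show _ = ((isoOf hχ hχr) (α ((isoOf hχ hχr).symm ⟨z, hzY⟩)) : Y).1
            rw [hez]; rfl
        _ = z := h
    exact congrArg Subtype.val (F.injective_of_mem hχ h')
  · -- central elements of `F` are central in `N`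
    set A := F.center
    have hA : F.IsCentral A := Fusion.Alperin.isCentral_center hS hF
    refine le_sSup (s := {Q : Subgroup Ω | N.IsCentral Q}) ⟨hA.1.trans hNS.ge, fun P φ hφ => ?_⟩
    rw [hN P] at hφ
    obtain ⟨hφF, hP, hφN, ψ, hψ, hψe, hψV⟩ := hφ
    obtain ⟨θ, hθ, hθe, hθA⟩ := hA.2 _ ψ hψ
    have hle : P ⊔ A ≤ P ⊔ V ⊔ A := sup_le_sup_right le_sup_left A
    refine ⟨θ.comp (Subgroup.inclusion hle), ?_, fun x => ?_, fun x => hθA x⟩
    · rw [hN (P ⊔ A)]
      have hle2 : P ⊔ A ⊔ V ≤ P ⊔ V ⊔ A := by rw [sup_right_comm]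
      refine ⟨restrict_mem F hθ hle, sup_le hP (hA.1.trans hNS.ge),
        fun x => hNS.ge (hom_mem F hθ _), _, restrict_mem F hθ hle2, fun x => rfl, ?_⟩
      exact Fusion.Alperin.subgroupOf_map_eq (F.injective_of_mem (restrict_mem F hθ hle2)) le_sup_right
        fun x hx => by
          have h1 : θ (Subgroup.inclusion hle2 x) = ψ ⟨x, Subgroup.mem_sup_right hx⟩ := by
            rw [← hθe]
            rfl
          show θ (Subgroup.inclusion hle2 x) ∈ V
          rw [h1]
          exact hψV.le ⟨_, hx, rfl⟩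
    · rw [← hψe x, ← hθe]
      rfl

end CfsgLib.FusFunctor
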